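import Mathlib
import Groth.Prelude.Def_KZero

/-!
# The Grothendieck group of the heart
-/

set_option autoImplicit false
set_option linter.style.haveILetI false
set_option linter.unusedSectionVars false

open CategoryTheory CategoryTheory.Limits CategoryTheory.Pretriangulated
open scoped ZeroObject

universe w v u

noncomputable section

namespace Groth.Agent.KZeroLib

section Tr

variable {D : Type u} [Category.{v} D] [Preadditive D] [HasZeroObject D] [HasShift D ℤ]
  [∀ n : ℤ, (shiftFunctor D n).Additive] [Pretriangulated D] {Q : ObjectProperty D}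

theorem clTr_of {K : D} (h : Q K) :
    KZero.clTr Q K = QuotientAddGroup.mk (FreeAbelianGroup.of (⟨K, h⟩ : Subtype Q)) := dif_pos h

theorem clTr_add (T : Triangle D) (hT : T ∈ distTriang D) (h₁ : Q T.obj₁) (h₂ : Q T.obj₂) (h₃ : Q T.obj₃) :
    KZero.clTr Q T.obj₂ = KZero.clTr Q T.obj₁ + KZero.clTr Q T.obj₃ := by
  rw [clTr_of h₁, clTr_of h₂, clTr_of h₃, ← sub_eq_zero, ← sub_sub]
  exact (QuotientAddGroup.eq_zero_iff _).2 (AddSubgroup.subset_closure ⟨T, h₁, h₂, h₃, hT, rfl⟩)

theorem clTr_isZero {K : D} (h : IsZero K) (hQ : Q K) : KZero.clTr Q K = 0 := by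
  have hT : Triangle.mk (0 : K ⟶ K) (0 : K ⟶ K) (0 : K ⟶ K⟦(1 : ℤ)⟧) ∈ distTriang D :=
    isomorphic_distinguished _ (contractible_distinguished K) _
      (Triangle.isoMk _ _ (Iso.refl _) (Iso.refl _) (h.iso (isZero_zero _)) (h.eq_of_src _ _) (h.eq_of_src _ _)
        (h.eq_of_src _ _))
  simpa using clTr_add _ hT hQ hQ hQ

variable (h0 : Q 0)
include h0

theorem clTr_iso {K L : D} (e : K ≅ L) (hK : Q K) (hL : Q L) : KZero.clTr Q L = KZero.clTr Q K := by
  have hT : Triangle.mk e.hom (0 : L ⟶ 0) (0 : (0 : D) ⟶ K⟦(1 : ℤ)⟧) ∈ distTriang D :=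
    isomorphic_distinguished _ (contractible_distinguished K) _
      (Triangle.isoMk _ _ (Iso.refl _) e.symm (Iso.refl _) (by simp [Triangle.mk, contractibleTriangle])
        ((isZero_zero _).eq_of_tgt _ _) ((isZero_zero _).eq_of_src _ _))
  have := clTr_add _ hT hK hL h0
  simpa [clTr_isZero (isZero_zero D) h0] using this

theorem clTr_shift_one {K : D} (hK : Q K) (hK' : Q (K⟦(1 : ℤ)⟧)) :
    KZero.clTr Q (K⟦(1 : ℤ)⟧) = -KZero.clTr Q K := by
  have := clTr_add _ (rot_of_distTriang _ (contractible_distinguished K)) hK h0 hK'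
  change KZero.clTr Q (0 : D) = KZero.clTr Q K + KZero.clTr Q (K⟦(1 : ℤ)⟧) at this
  rw [clTr_isZero (isZero_zero _) h0] at this
  exact eq_neg_of_add_eq_zero_right this.symm

theorem clTr_shift (hs : ∀ (K : D) (n : ℤ), Q K → Q (K⟦n⟧)) [Q.IsClosedUnderIsomorphisms] {K : D} (hK : Q K) (n : ℤ) :
    KZero.clTr Q (K⟦n⟧) = (n.negOnePow : ℤ) • KZero.clTr Q K := by
  induction n with
  | zero =>
    rw [clTr_iso h0 ((shiftFunctorZero D ℤ).app K).symm hK (hs K 0 hK), Int.negOnePow_zero]
    simp
  | succ n ih =>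
    rw [clTr_iso h0 ((shiftFunctorAdd D (n : ℤ) 1).app K).symm (hs _ _ (hs _ _ hK)) (hs _ _ hK)]
    show KZero.clTr Q ((K⟦(n : ℤ)⟧)⟦(1 : ℤ)⟧) = _
    rw [clTr_shift_one h0 (hs _ _ hK) (hs _ _ (hs _ _ hK)), ih, Int.negOnePow_succ, Units.val_neg, neg_smul]
  | pred n ih =>
    have e := (shiftFunctorAdd' D (-(n : ℤ) - 1) 1 (-(n : ℤ)) (by omega)).app K
    have := clTr_iso h0 e (hs _ _ hK) (hs _ _ (hs _ _ hK))
    dsimp only [Functor.comp_obj] at this
    rw [clTr_shift_one h0 (hs _ _ hK) (hs _ _ (hs _ _ hK)), ih] at this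
    rw [← neg_neg (KZero.clTr Q (K⟦-(n : ℤ) - 1⟧)), this, ← neg_smul]
    congr 1
    rw [show (-(n : ℤ)) = (-(n : ℤ) - 1) + 1 by omega, Int.negOnePow_succ, Units.val_neg, neg_neg,
      show (-(n : ℤ) - 1 + 1 - 1) = -(n : ℤ) - 1 by omega]

end Tr

variable {A : Type u} [Category.{v} A] [Abelian A] [HasDerivedCategory.{w} A]
  (P : ObjectProperty A) (Q : ObjectProperty (DerivedCategory A))

/-- The hypotheses: `Q` consists of bounded objects with cohomology in `P`, and is triangulated. -/
structure HeartHyp : Prop where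
  isoP : ∀ {M N : A}, (M ≅ N) → P M → P N
  kerP : ∀ {M N : A} (f : M ⟶ N), P M → P N → P (kernel f)
  toQ : ∀ M : A, P M → Q ((DerivedCategory.singleFunctor A 0).obj M)
  coh : ∀ K, Q K → ∀ i : ℤ, P ((DerivedCategory.homologyFunctor A i).obj K)
  bdd : ∀ K, Q K → ∃ a b : ℤ, K.IsGE a ∧ K.IsLE b
  isoQ : ∀ {K L : DerivedCategory A}, (K ≅ L) → Q K → Q L
  shiftQ : ∀ (K : DerivedCategory A) (n : ℤ), Q K → Q (K⟦n⟧)
  obj₃Q : ∀ T : Triangle (DerivedCategory A), T ∈ distTriang _ → Q T.obj₁ → Q T.obj₂ → Q T.obj₃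
  zeroQ : Q 0

variable {P Q}

theorem clSub_of {X : A} (h : P X) :
    KZero.clSub P X = QuotientAddGroup.mk (FreeAbelianGroup.of (⟨X, h⟩ : Subtype P)) := dif_pos h

theorem clSub_add {S : ShortComplex A} (hS : S.ShortExact) (h₁ : P S.X₁) (h₂ : P S.X₂) (h₃ : P S.X₃) :
    KZero.clSub P S.X₂ = KZero.clSub P S.X₁ + KZero.clSub P S.X₃ := by
  rw [clSub_of h₁, clSub_of h₂, clSub_of h₃, ← sub_eq_zero, ← sub_sub]
  exact (QuotientAddGroup.eq_zero_iff _).2 (AddSubgroup.subset_closure ⟨S, h₁, h₂, h₃, hS, rfl⟩)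

theorem clSub_isZero {M : A} (h : IsZero M) : KZero.clSub P M = 0 := by
  by_cases hM : P M
  · have hS : (ShortComplex.mk (0 : M ⟶ M) (0 : M ⟶ M) zero_comp).ShortExact :=
      { exact := ShortComplex.exact_of_isZero_X₂ _ h
        mono_f := ⟨fun _ _ _ => h.eq_of_tgt _ _⟩
        epi_g := ⟨fun _ _ _ => h.eq_of_src _ _⟩ }
    simpa using clSub_add hS hM hM hM
  · exact dif_neg hM

variable (H : HeartHyp P Q)
include H

theorem clSub_iso {M N : A} (e : M ≅ N) (hM : P M) : KZero.clSub P N = KZero.clSub P M := by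
  have hz : P (kernel e.hom) := H.kerP e.hom hM (H.isoP e hM)
  have hS : (ShortComplex.mk (kernel.ι e.hom) e.hom (kernel.condition _)).ShortExact :=
    { exact := ShortComplex.exact_of_f_is_kernel _ (kernelIsKernel _) }
  have := clSub_add hS hz hM (H.isoP e hM)
  rw [clSub_isZero (isZero_kernel_of_mono e.hom), zero_add] at this
  exact this.symm

/-- One step of a long exact sequence. -/
theorem clSub_step {X Y Z : A} (f : X ⟶ Y) (g : Y ⟶ Z) (w : f ≫ g = 0) (hex : (ShortComplex.mk f g w).Exact)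
    (hX : P X) (hY : P Y) (hZ : P Z) :
    KZero.clSub P X = KZero.clSub P (kernel f) + KZero.clSub P (kernel g) := by
  have hepi : Epi (kernel.lift g f w) := (ShortComplex.exact_iff_epi_kernel_lift _).1 hex
  have hk : (ShortComplex.mk (kernel.ι f) (kernel.lift g f w)
      ((cancel_mono (kernel.ι g)).1 (by simp))).ShortExact :=
    { exact := ShortComplex.exact_of_f_is_kernel _ (KernelFork.IsLimit.ofι _ _ (fun x hx => kernel.lift f x (by
          rw [← kernel.lift_ι g f w, reassoc_of% hx, zero_comp]))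
          (fun x hx => kernel.lift_ι _ _ _) (fun x hx m hm => (cancel_mono (kernel.ι f)).1 (by simpa using hm)))
      mono_f := inferInstance
      epi_g := hepi }
  exact clSub_add hk (H.kerP f hX hY) hX (H.kerP g hY hZ)

variable (P) in
omit H in
/-- The alternating sum of the cohomology. -/
def chi (K : DerivedCategory A) : KZero.K0sub P :=
  ∑ᶠ i : ℤ, (i.negOnePow : ℤ) • KZero.clSub P ((DerivedCategory.homologyFunctor A i).obj K)

theorem finite_support_cl {K : DerivedCategory A} (hK : Q K) {ι : Type} (φ : ι → A) (e : ι → ℤ)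
    (he : Function.Injective e) (hφ : ∀ i, IsZero ((DerivedCategory.homologyFunctor A (e i)).obj K) → IsZero (φ i)) :
    (Function.support fun i => KZero.clSub P (φ i)).Finite := by
  obtain ⟨a, b, ha, hb⟩ := H.bdd K hK
  refine ((Finset.Icc a b).finite_toSet.preimage he.injOn).subset fun i hi => ?_
  by_contra hne
  simp only [Set.mem_preimage, Finset.coe_Icc, Set.mem_Icc, not_and_or, not_le] at hne
  refine hi (clSub_isZero (hφ i ?_))
  rcases hne with h | h
  · exact DerivedCategory.isZero_of_isGE K a (e i) h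
  · exact DerivedCategory.isZero_of_isLE K b (e i) h

theorem chi_add (T : Triangle (DerivedCategory A)) (hT : T ∈ distTriang _) (h₁ : Q T.obj₁) (h₂ : Q T.obj₂)
    (h₃ : Q T.obj₃) : chi P T.obj₂ = chi P T.obj₁ + chi P T.obj₃ := by
  let F := fun i : ℤ => DerivedCategory.homologyFunctor A i
  let a := fun i : ℤ => KZero.clSub P (kernel ((F i).map T.mor₁))
  let b := fun i : ℤ => KZero.clSub P (kernel ((F i).map T.mor₂))
  let c := fun i : ℤ => KZero.clSub P (kernel (DerivedCategory.HomologySequence.δ T i (i + 1) rfl))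
  have p₁ := H.coh _ h₁
  have p₂ := H.coh _ h₂
  have p₃ := H.coh _ h₃
  have eA : ∀ i, KZero.clSub P ((F i).obj T.obj₁) = a i + b i := fun i =>
    clSub_step H _ _ _ (DerivedCategory.HomologySequence.exact₂ T hT i) (p₁ i) (p₂ i) (p₃ i)
  have eB : ∀ i, KZero.clSub P ((F i).obj T.obj₂) = b i + c i := fun i =>
    clSub_step H _ _ _ (DerivedCategory.HomologySequence.exact₃ T hT i (i + 1) rfl) (p₂ i) (p₃ i) (p₁ _)
  have eC : ∀ i, KZero.clSub P ((F i).obj T.obj₃) = c i + a (i + 1) := fun i =>
    clSub_step H _ _ _ (DerivedCategory.HomologySequence.exact₁ T hT i (i + 1) rfl) (p₃ i) (p₁ _) (p₂ _)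
  have fa : (Function.support a).Finite := finite_support_cl H h₁ (fun i => kernel ((F i).map T.mor₁)) id
    Function.injective_id fun i hi => IsZero.of_mono (kernel.ι _) hi
  have fb : (Function.support b).Finite := finite_support_cl H h₂ (fun i => kernel ((F i).map T.mor₂)) id
    Function.injective_id fun i hi => IsZero.of_mono (kernel.ι _) hi
  have fc : (Function.support c).Finite := finite_support_cl H h₃
    (fun i => kernel (DerivedCategory.HomologySequence.δ T i (i + 1) rfl)) id
    Function.injective_id fun i hi => IsZero.of_mono (kernel.ι _) hi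
  have fs : ∀ {g : ℤ → KZero.K0sub P}, (Function.support g).Finite →
      (Function.support fun i : ℤ => (i.negOnePow : ℤ) • g i).Finite := fun {g} hg =>
    hg.subset fun i hi h => hi (by simp [h])
  have fa' : (Function.support fun i => a (i + 1)).Finite := fa.preimage (add_left_injective 1).injOn
  have hsh : (∑ᶠ i : ℤ, (i.negOnePow : ℤ) • a (i + 1)) = -∑ᶠ i : ℤ, (i.negOnePow : ℤ) • a i := by
    rw [← finsum_comp_equiv (Equiv.addRight (1 : ℤ)) (f := fun i : ℤ => (i.negOnePow : ℤ) • a i),
      ← finsum_neg_distrib]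
    exact finsum_congr fun i => by simp [Int.negOnePow_succ]
  show (∑ᶠ i : ℤ, (i.negOnePow : ℤ) • KZero.clSub P ((F i).obj T.obj₂)) =
    (∑ᶠ i : ℤ, (i.negOnePow : ℤ) • KZero.clSub P ((F i).obj T.obj₁)) +
      ∑ᶠ i : ℤ, (i.negOnePow : ℤ) • KZero.clSub P ((F i).obj T.obj₃)
  simp only [eA, eB, eC, smul_add]
  rw [finsum_add_distrib (fs fb) (fs fc), finsum_add_distrib (fs fa) (fs fb), finsum_add_distrib (fs fc) (fs fa'), hsh]
  abel

theorem chi_single {M : A} (hM : P M) :
    chi P ((DerivedCategory.singleFunctor A 0).obj M) = KZero.clSub P M := by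
  rw [chi, finsum_eq_single _ (0 : ℤ) fun i hi => ?_]
  · rw [Int.negOnePow_zero, Units.val_one, one_smul]
    exact clSub_iso H ((DerivedCategory.singleFunctorCompHomologyFunctorIso A 0).app M).symm hM
  · rw [clSub_isZero, smul_zero]
    rcases lt_or_gt_of_ne hi with h | h
    · exact DerivedCategory.isZero_of_isGE _ 0 i h
    · exact DerivedCategory.isZero_of_isLE _ 0 i h

/-- From the heart. -/
def toTr : KZero.K0sub P →+ KZero.K0tr Q :=
  QuotientAddGroup.lift _
    (FreeAbelianGroup.lift fun M => KZero.clTr Q ((DerivedCategory.singleFunctor A 0).obj M.1)) <| by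
    rw [KZero.relSub, AddSubgroup.closure_le]
    rintro x ⟨S, h₁, h₂, h₃, hS, rfl⟩
    simp only [SetLike.mem_coe, AddMonoidHom.mem_ker, map_sub, FreeAbelianGroup.lift_apply_of]
    rw [sub_sub, sub_eq_zero]
    exact clTr_add _ hS.singleTriangle_distinguished (H.toQ _ h₁) (H.toQ _ h₂) (H.toQ _ h₃)

/-- To the heart. -/
def toSub : KZero.K0tr Q →+ KZero.K0sub P :=
  QuotientAddGroup.lift _ (FreeAbelianGroup.lift fun K => chi P K.1) <| by
    rw [KZero.relTr, AddSubgroup.closure_le]
    rintro x ⟨T, h₁, h₂, h₃, hT, rfl⟩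
    simp only [SetLike.mem_coe, AddMonoidHom.mem_ker, map_sub, FreeAbelianGroup.lift_apply_of]
    rw [sub_sub, sub_eq_zero]
    exact chi_add H T hT h₁ h₂ h₃

theorem toTr_clSub {M : A} (hM : P M) :
    toTr H (KZero.clSub P M) = KZero.clTr Q ((DerivedCategory.singleFunctor A 0).obj M) := by
  rw [clSub_of hM]
  exact (QuotientAddGroup.lift_mk' _ _ _).trans (FreeAbelianGroup.lift_apply_of _ _)

theorem toSub_clTr {K : DerivedCategory A} (hK : Q K) : toSub H (KZero.clTr Q K) = chi P K := by
  rw [clTr_of hK]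
  exact (QuotientAddGroup.lift_mk' _ _ _).trans (FreeAbelianGroup.lift_apply_of _ _)

theorem toTr_chi : ∀ (m : ℕ) (K : DerivedCategory A), Q K → ∀ a : ℤ, K.IsGE a → K.IsLE (a + (m : ℤ) - 1) →
    toTr H (toSub H (KZero.clTr Q K)) = KZero.clTr Q K := by
  haveI : Q.IsClosedUnderIsomorphisms := ⟨fun e h => H.isoQ e h⟩
  intro m
  induction m with
  | zero =>
    intro K hK a hGE hLE
    have hz : IsZero K := DerivedCategory.TStructure.t.isZero K (a + (0 : ℕ) - 1) a (by simp)
    rw [clTr_isZero hz hK, map_zero, map_zero]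
  | succ m ih =>
    intro K hK a hGE hLE
    obtain ⟨X, Y, hX, hY, f, g, h, hT⟩ := DerivedCategory.TStructure.t.exists_triangle K a (a + 1) rfl
    haveI : X.IsLE a := ⟨hX⟩
    haveI : Y.IsGE (a + 1) := ⟨hY⟩
    haveI : X.IsGE a := by
      haveI : DerivedCategory.TStructure.t.IsGE Y (a + 1) := ⟨hY⟩
      haveI h1 : DerivedCategory.TStructure.t.IsGE (Y⟦(-1 : ℤ)⟧) a :=
        haveI := DerivedCategory.TStructure.t.isGE_shift Y (a + 1) (-1) (a + 2) (by omega)
        DerivedCategory.TStructure.t.isGE_of_ge _ a (a + 2) (by omega)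
      exact DerivedCategory.TStructure.t.isGE₂ _ (inv_rot_of_distTriang _ hT) a h1 hGE
    haveI : Y.IsLE (a + 1 + (m : ℤ) - 1) := by
      haveI : DerivedCategory.TStructure.t.IsLE X a := ⟨hX⟩
      haveI h1 : DerivedCategory.TStructure.t.IsLE (X⟦(1 : ℤ)⟧) (a + 1 + (m : ℤ) - 1) :=
        haveI := DerivedCategory.TStructure.t.isLE_shift X a 1 (a - 1) (by omega)
        DerivedCategory.TStructure.t.isLE_of_le _ (a - 1) _ (by omega)
      have hLE' : K.IsLE (a + 1 + (m : ℤ) - 1) := by
        convert hLE using 1; push_cast; ring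
      exact DerivedCategory.TStructure.t.isLE₂ _ (rot_of_distTriang _ hT) _ hLE' h1
    obtain ⟨N, ⟨eN⟩⟩ := DerivedCategory.exists_iso_singleFunctor_obj_of_isGE_of_isLE X a
    haveI : IsIso ((DerivedCategory.homologyFunctor A a).map f) := by
      haveI : Mono ((DerivedCategory.homologyFunctor A a).map f) :=
        (DerivedCategory.HomologySequence.mono_homologyMap_mor₁_iff _ hT (a - 1) a (by omega)).2
          ((DerivedCategory.isZero_of_isGE Y (a + 1) (a - 1) (by omega)).eq_of_src _ _)
      haveI : Epi ((DerivedCategory.homologyFunctor A a).map f) :=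
        (DerivedCategory.HomologySequence.epi_homologyMap_mor₁_iff _ hT a).2
          ((DerivedCategory.isZero_of_isGE Y (a + 1) a (by omega)).eq_of_tgt _ _)
      exact isIso_of_mono_of_epi _
    have hN : P N := H.isoP ((asIso ((DerivedCategory.homologyFunctor A a).map f)).symm ≪≫
      (DerivedCategory.homologyFunctor A a).mapIso eN ≪≫
        (DerivedCategory.singleFunctorCompHomologyFunctorIso A a).app N) (H.coh K hK a)
    let eX : ((DerivedCategory.singleFunctor A 0).obj N)⟦-a⟧ ≅ X :=
      (((DerivedCategory.singleFunctors A).shiftIso (-a) a 0 (by omega)).app N) ≪≫ eN.symm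
    have qN := H.toQ N hN
    have qX : Q X := H.isoQ eX (H.shiftQ _ _ qN)
    have qY : Q Y := H.obj₃Q _ hT qX hK
    have hsum : KZero.clTr Q K = KZero.clTr Q X + KZero.clTr Q Y := clTr_add _ hT qX hK qY
    have hY' := ih Y qY (a + 1) inferInstance inferInstance
    rw [hsum, map_add, map_add, hY', clTr_iso H.zeroQ eX (H.shiftQ _ _ qN) qX,
      clTr_shift H.zeroQ H.shiftQ qN, map_zsmul, map_zsmul, toSub_clTr H qN, chi_single H hN, toTr_clSub H hN]

/-- The Grothendieck groups agree. -/
def k0Equiv : KZero.K0sub P ≃+ KZero.K0tr Q :=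
  AddMonoidHom.toAddEquiv (toTr H) (toSub H)
    (by
      refine AddMonoidHom.ext fun x => ?_
      induction x using QuotientAddGroup.induction_on with
      | H x =>
        induction x using FreeAbelianGroup.induction_on with
        | zero => simp
        | of M =>
          rw [← clSub_of M.2]
          simp only [AddMonoidHom.comp_apply, AddMonoidHom.id_apply]
          rw [toTr_clSub H M.2, toSub_clTr H (H.toQ _ M.2), chi_single H M.2]
        | neg K h => rw [QuotientAddGroup.mk_neg, map_neg, h, map_neg]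
        | add x y hx hy => rw [QuotientAddGroup.mk_add, map_add, map_add, hx, hy])
    (by
      refine AddMonoidHom.ext fun x => ?_
      induction x using QuotientAddGroup.induction_on with
      | H x =>
        induction x using FreeAbelianGroup.induction_on with
        | zero => simp
        | of K =>
          rw [← clTr_of K.2]
          simp only [AddMonoidHom.comp_apply, AddMonoidHom.id_apply]
          obtain ⟨a, b, ha, hb⟩ := H.bdd K.1 K.2
          exact toTr_chi H (b - a + 1).toNat K.1 K.2 a ha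
            (DerivedCategory.TStructure.t.isLE_of_le K.1 b _ (by omega))
        | neg K h => rw [QuotientAddGroup.mk_neg, map_neg, h, map_neg]
        | add x y hx hy => rw [QuotientAddGroup.mk_add, map_add, map_add, hx, hy])

@[simp]
theorem k0Equiv_apply (x : KZero.K0sub P) : k0Equiv H x = toTr H x := rfl

end Groth.Agent.KZeroLib
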