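import Groth.Agent.KZeroLib.Devissage
import Groth.Agent.DCohLib.ProjClosed
import Groth.Agent.DevLib.Closed
import Groth.Agent.RegIdealLib.Immersion
import Groth.Agent.PullbackMod.Props
import Groth.Agent.DCohLib.PerfCoh

/-!
# `K₀` of coherent modules and nilpotent thickenings
-/

set_option autoImplicit false
set_option linter.style.haveILetI false
set_option backward.isDefEq.respectTransparency false

universe u

open CategoryTheory CategoryTheory.Limits AlgebraicGeometry
open Groth.Agent.DCohLib Groth.Agent.PullbackMod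
open scoped TensorProduct

noncomputable section

namespace Groth.Agent.KZeroLib.Devissage

variable {X X' : Scheme.{u}} (i : X' ⟶ X)

/-- Killed on stalks by the `n`-th power of the kernel. -/
def Killed (n : ℕ) (T : X.Modules) : Prop :=
  ∀ (x : X'), ∀ a ∈ (RingHom.ker (i.stalkMap x).hom) ^ n, ∀ z : T.presheaf.stalk (i x), a • z = 0

/-- Coherent and killed by the `n`-th power of the ideal. -/
def KP (n : ℕ) : ObjectProperty X.Modules := fun T => Coh.IsCoh T ∧ Killed i n T

theorem killed_of_mono {n : ℕ} {S T : X.Modules} (f : S ⟶ T) [Mono f] (h : Killed i n T) : Killed i n S :=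
  fun x a ha z => (mono_iff_stalk f).1 inferInstance (i x) (by rw [map_smul, h x a ha, map_zero])

theorem killed_of_epi {n : ℕ} {S T : X.Modules} (f : S ⟶ T) [Epi f] (h : Killed i n S) : Killed i n T :=
  fun x a ha z => by
    obtain ⟨w, rfl⟩ := (epi_iff_stalk f).1 inferInstance (i x) z
    rw [← map_smul, h x a ha, map_zero]

theorem killed_biprod {n : ℕ} {S T : X.Modules} (hS : Killed i n S) (hT : Killed i n T) : Killed i n (S ⊞ T) :=
  fun x a ha z => by
    have hex := (ShortComplex.Splitting.ofHasBinaryBiproduct S T).shortExact.map_of_exact (stkF (i x))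
    have h2 : stalkLin (biprod.snd : S ⊞ T ⟶ T) (i x) (a • z) = 0 := by rw [map_smul]; exact hT x a ha _
    obtain ⟨w, hw⟩ := (ShortComplex.ShortExact.moduleCat_exact_iff_function_exact _).1 hex.exact (a • z) |>.1 h2
    have h1 : stalkLin (biprod.fst : S ⊞ T ⟶ S) (i x) (a • z) = 0 := by rw [map_smul]; exact hS x a ha _
    have hw' : stalkLin (biprod.inl : S ⟶ S ⊞ T) (i x) w = a • z := hw
    have h3 : ∀ w : S.presheaf.stalk (i x), stalkLin (biprod.fst : S ⊞ T ⟶ S) (i x)
        (stalkLin (biprod.inl : S ⟶ S ⊞ T) (i x) w) = w := fun w => by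
      have := congr(($(((stkF (i x)).map_comp (biprod.inl : S ⟶ S ⊞ T) (biprod.fst : S ⊞ T ⟶ S)).symm.trans
        ((congrArg _ biprod.inl_fst).trans ((stkF (i x)).map_id S)))).hom w)
      exact this
    rw [← hw', h3 w] at h1
    rw [← hw', h1, map_zero]

variable [IsLocallyNoetherian X]

theorem hyp (n : ℕ) : Hyp (fun T : X.Modules => Coh.IsCoh T) (KP i n) where
  le h := h.1
  ker f hM hN := (QCohLib.isCoh_kernel_cokernel f hM hN).1
  coker f hM hN := (QCohLib.isCoh_kernel_cokernel f hM hN).2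
  isoA e h := DCohLib.isCoh_iso e h
  biA hM hN := QCohLib.isCoh_X₂ (ShortComplex.Splitting.ofHasBinaryBiproduct _ _).shortExact hM hN
  sub f hf hM hN := ⟨hM, killed_of_mono i f hN.2⟩
  quot f hf hN hM := ⟨hN, killed_of_epi i f hM.2⟩
  biP hM hN := ⟨QCohLib.isCoh_X₂ (ShortComplex.Splitting.ofHasBinaryBiproduct _ _).shortExact hM.1 hN.1,
    killed_biprod i hM.2 hN.2⟩

theorem killed_succ {n : ℕ} {T : X.Modules} (h : Killed i n T) : Killed i (n + 1) T :=
  fun x a ha => h x a (Ideal.pow_le_pow_right (Nat.le_succ n) ha)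

/-- All coherent modules. -/
theorem hyp' : Hyp (fun T : X.Modules => Coh.IsCoh T) (fun T : X.Modules => Coh.IsCoh T) where
  le h := h
  ker f hM hN := (QCohLib.isCoh_kernel_cokernel f hM hN).1
  coker f hM hN := (QCohLib.isCoh_kernel_cokernel f hM hN).2
  isoA e h := DCohLib.isCoh_iso e h
  biA hM hN := QCohLib.isCoh_X₂ (ShortComplex.Splitting.ofHasBinaryBiproduct _ _).shortExact hM hN
  sub _ _ hM _ := hM
  quot _ _ hN _ := hN
  biP hM hN := QCohLib.isCoh_X₂ (ShortComplex.Splitting.ofHasBinaryBiproduct _ _).shortExact hM hN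

variable [IsClosedImmersion i]

theorem mem_smul_of_pullStalk_eq_zero {T : X.Modules} (x : X') (z : T.presheaf.stalk (i x))
    (hz : pullStalk i T x z = 0) : z ∈ RingHom.ker (i.stalkMap x).hom • (⊤ : Submodule (X.presheaf.stalk (i x)) (T.presheaf.stalk (i x))) := by
  letI := (i.stalkMap x).hom.toAlgebra
  let A := X.presheaf.stalk (i x)
  let B := X'.presheaf.stalk x
  let T' := T.presheaf.stalk (i x)
  have h0 : (1 : B) ⊗ₜ[A] z = 0 := (pullStalkEquiv i x T).injective (by
    rw [map_zero]
    exact ((pullStalkEquiv_tmul i x T 1 z).trans (one_smul _ _)).trans hz)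
  have hsurj : Function.Surjective (Algebra.linearMap A B) := i.stalkMap_surjective x
  have hex := rTensor_exact T' (LinearMap.exact_subtype_ker_map (Algebra.linearMap A B)) hsurj
  obtain ⟨n, hn⟩ := (hex ((1 : A) ⊗ₜ[A] z)).1 (by
    rw [LinearMap.rTensor_tmul]
    show algebraMap A B 1 ⊗ₜ[A] z = 0
    rw [map_one]
    exact h0)
  have key : ∀ n, TensorProduct.lid A T' ((LinearMap.ker (Algebra.linearMap A B)).subtype.rTensor T' n) ∈
      RingHom.ker (i.stalkMap x).hom • (⊤ : Submodule A T') := fun n => by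
    induction n using TensorProduct.induction_on with
    | zero => rw [map_zero, map_zero]; exact zero_mem _
    | tmul a t =>
      rw [LinearMap.rTensor_tmul, TensorProduct.lid_tmul]
      exact Submodule.smul_mem_smul (show a.1 ∈ RingHom.ker (i.stalkMap x).hom from a.2) Submodule.mem_top
    | add p q hp hq => rw [map_add, map_add]; exact add_mem hp hq
  have h2 := key n
  rw [hn, TensorProduct.lid_tmul, one_smul] at h2
  exact h2

theorem isExt (n : ℕ) : IsExt (KP i (n + 1)) (KP i (n + 2)) := by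
  intro T hT
  let P' := (Scheme.Modules.pushforward i).obj ((Scheme.Modules.pullback i).obj T)
  let η : T ⟶ P' := (Scheme.Modules.pullbackPushforwardAdjunction i).unit.app T
  haveI : IsLocallyNoetherian X' := LocallyOfFiniteType.isLocallyNoetherian i
  have hP' : Coh.IsCoh P' := DevLib.isCoh_pushforward_closed i (PullbackMod.isCoh_pullback i T hT.1)
  have hK : Coh.IsCoh (kernel η) := (QCohLib.isCoh_kernel_cokernel η hT.1 hP').1
  have hI : Coh.IsCoh (Abelian.image η) :=
    (QCohLib.isCoh_kernel_cokernel _ hP' (QCohLib.isCoh_kernel_cokernel η hT.1 hP').2).1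
  refine ⟨kernel η, Abelian.image η, kernel.ι η, Abelian.factorThruImage η,
    (cancel_mono (Abelian.image.ι η)).1 (by simp), ?_, ⟨hK, fun x a ha z => ?_⟩, hI, ?_⟩
  · exact
      { exact := ShortComplex.exact_of_f_is_kernel _ (KernelFork.IsLimit.ofι _ _
          (fun y hy => kernel.lift η y (by rw [← Abelian.image.fac η, reassoc_of% hy, zero_comp]))
          (fun y hy => kernel.lift_ι _ _ _)
          (fun y hy m hm => (cancel_mono (kernel.ι η)).1 (by simpa using hm)))
        mono_f := inferInstance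
        epi_g := inferInstance }
  · apply (mono_iff_stalk (kernel.ι η)).1 inferInstance (i x)
    rw [map_smul, map_zero]
    have h0 : stalkLin η (i x) (stalkLin (kernel.ι η) (i x) z) = 0 := by
      have := congr(($(((stkF (i x)).map_comp (kernel.ι η) η).symm.trans
        ((congrArg _ (kernel.condition η)).trans ((stkF (i x)).map_zero _ _)))).hom z)
      exact this
    have h1 := mem_smul_of_pullStalk_eq_zero i x (stalkLin (kernel.ι η) (i x) z) (by
      rw [← unit_stalk_pushStalk, show stalkLin ((Scheme.Modules.pullbackPushforwardAdjunction i).unit.app T) (i x)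
        (stalkLin (kernel.ι η) (i x) z) = 0 from h0, map_zero])
    refine Submodule.smul_induction_on h1 (fun b hb t _ => ?_) fun p q hp hq => by rw [smul_add, hp, hq, add_zero]
    rw [← mul_smul]
    refine hT.2 x _ ?_ t
    rw [pow_succ]
    exact Ideal.mul_mem_mul ha hb
  · have h1 : Killed i 1 P' := fun x a ha z => (suppOn_pushforward i _).smul_eq_zero x a (by rwa [pow_one] at ha) z
    intro x a ha z
    exact killed_of_mono i (Abelian.image.ι η) h1 x a
      (Ideal.pow_le_pow_right (by omega : 1 ≤ n + 1) ha) z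

theorem mapSub_comp {P Q R : ObjectProperty X.Modules} (h₁ : ∀ M, P M → Q M) (h₂ : ∀ M, Q M → R M) :
    SGA6.mapSub (𝟭 X.Modules) P R (fun M h => h₂ M (h₁ M h)) =
      (SGA6.mapSub (𝟭 X.Modules) Q R h₂).comp (SGA6.mapSub (𝟭 X.Modules) P Q h₁) :=
  QuotientAddGroup.addMonoidHom_ext _ (FreeAbelianGroup.lift_ext _ _ fun _ => rfl)

theorem bijective_pow : ∀ n : ℕ, ∀ h : (∀ M, KP i 1 M → KP i (n + 1) M),
    Function.Bijective (SGA6.mapSub (𝟭 X.Modules) (KP i 1) (KP i (n + 1)) h)
  | 0, h => by
    have : SGA6.mapSub (𝟭 X.Modules) (KP i 1) (KP i 1) h = AddMonoidHom.id _ :=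
      QuotientAddGroup.addMonoidHom_ext _ (FreeAbelianGroup.lift_ext _ _ fun _ => rfl)
    rw [this]
    exact Function.bijective_id
  | n + 1, h => by
    have h₁ : ∀ M, KP i 1 M → KP i (n + 1) M := fun M hM =>
      ⟨hM.1, fun x a ha => hM.2 x a (Ideal.pow_le_pow_right (by omega) ha)⟩
    have h₂ : ∀ M, KP i (n + 1) M → KP i (n + 2) M := fun M hM => ⟨hM.1, killed_succ i hM.2⟩
    rw [show h = fun M hM => h₂ M (h₁ M hM) from rfl, mapSub_comp h₁ h₂]
    exact (bijective (hyp i (n + 1)) (fun {M} hM => hM.1) h₂ (isExt i n)).comp (bijective_pow n h₁)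

/-- The ideal of a surjective closed immersion into a Noetherian scheme is nilpotent. -/
theorem exists_nilpotent [CompactSpace X] [Surjective i] :
    ∃ N : ℕ, ∀ x : X', (RingHom.ker (i.stalkMap x).hom) ^ N = ⊥ := by
  have hnil : ∀ U : X.affineOpens, IsNilpotent (RingHom.ker (i.app U.1).hom) := fun U => by
    haveI : IsNoetherianRing Γ(X, U.1) := IsLocallyNoetherian.component_noetherian U
    refine (Ideal.FG.isNilpotent_iff_le_nilradical (IsNoetherian.noetherian _)).2 fun r hr => ?_
    refine (mem_nilradical).2 ((Scheme.isNilpotent_iff_basicOpen_eq_bot_of_isCompact U.2.isCompact r).2 ?_)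
    refine eq_bot_iff.2 fun y hy => ?_
    obtain ⟨x, rfl⟩ := i.surjective y
    have hx : x ∈ i ⁻¹ᵁ X.basicOpen r := hy
    rw [Scheme.preimage_basicOpen, show i.app U.1 r = 0 from hr, Scheme.basicOpen_zero] at hx
    exact hx
  choose m hm using hnil
  have hcov : ∀ y : X, ∃ U : X.affineOpens, y ∈ U.1 := fun y => by
    obtain ⟨_, ⟨U : X.Opens, hU, rfl⟩, hy, -⟩ :=
      X.isBasis_affineOpens.exists_subset_of_mem_open (Set.mem_univ y) isOpen_univ
    exact ⟨⟨U, hU⟩, hy⟩
  choose U hU using hcov
  obtain ⟨t, ht⟩ := isCompact_univ.elim_finite_subcover (fun y => ((U y).1 : Set X)) (fun y => (U y).1.2)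
    (fun y _ => Set.mem_iUnion.2 ⟨y, hU y⟩)
  refine ⟨t.sup fun y => m (U y), fun x => ?_⟩
  obtain ⟨y, hy, hxy⟩ := Set.mem_iUnion₂.1 (ht (Set.mem_univ (i x)))
  refine eq_bot_iff.2 ((Ideal.pow_le_pow_right (Finset.le_sup (f := fun y => m (U y)) hy)).trans ?_)
  rw [RegIdealLib.ker_stalkMap i (U y).2 (IsZariskiLocalAtTarget.restrict ‹IsClosedImmersion i› _) x hxy,
    ← Ideal.map_pow, hm (U y)]
  exact le_of_eq Ideal.map_bot

/-- Dévissage for a surjective closed immersion. -/
theorem bijective_pushforward [CompactSpace X] [Surjective i]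
    [(Scheme.Modules.pushforward i).Additive] [PreservesFiniteLimits (Scheme.Modules.pushforward i)]
    [PreservesFiniteColimits (Scheme.Modules.pushforward i)]
    (hi : ∀ M : X'.Modules, Coh.IsCoh M → Coh.IsCoh ((Scheme.Modules.pushforward i).obj M)) :
    Function.Bijective (SGA6.mapSub (Scheme.Modules.pushforward i) (fun M : X'.Modules => Coh.IsCoh M)
      (fun M : X.Modules => Coh.IsCoh M) hi) := by
  haveI : IsLocallyNoetherian X' := LocallyOfFiniteType.isLocallyNoetherian i
  obtain ⟨N, hN⟩ := exists_nilpotent i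
  let F := Scheme.Modules.pushforward i
  let G := Scheme.Modules.pullback i
  let adj := Scheme.Modules.pullbackPushforwardAdjunction i
  have h1 : ∀ M : X'.Modules, Coh.IsCoh M → KP i 1 (F.obj M) := fun M hM =>
    ⟨hi M hM, fun x a ha z => (suppOn_pushforward i M).smul_eq_zero x a (by rwa [pow_one] at ha) z⟩
  have hC : KP i (N + 1) = fun M : X.Modules => Coh.IsCoh M := funext fun M => propext
    ⟨fun h => h.1, fun h => ⟨h, fun x a ha z => by
      have h0 := Ideal.pow_le_pow_right (Nat.le_succ N) ha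
      rw [hN x, Ideal.mem_bot] at h0
      rw [h0, zero_smul]⟩⟩
  have hle : ∀ M, KP i 1 M → Coh.IsCoh M := fun M hM => hM.1
  have hb : Function.Bijective (SGA6.mapSub (𝟭 X.Modules) (KP i 1) (fun M : X.Modules => Coh.IsCoh M) hle) := by
    have := bijective_pow i N
    rw [hC] at this
    exact this hle
  have hcomp : SGA6.mapSub F (fun M : X'.Modules => Coh.IsCoh M) (fun M : X.Modules => Coh.IsCoh M) hi =
      (SGA6.mapSub (𝟭 X.Modules) (KP i 1) (fun M : X.Modules => Coh.IsCoh M) hle).comp
        (SGA6.mapSub F (fun M : X'.Modules => Coh.IsCoh M) (KP i 1) h1) :=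
    QuotientAddGroup.addMonoidHom_ext _ (FreeAbelianGroup.lift_ext _ _ fun _ => rfl)
  rw [hcomp]
  refine hb.comp ?_
  -- supported modules are direct images
  haveI : IsIso adj.counit := by
    haveI : ∀ M, IsIso (adj.counit.app M) := fun M => isIso_counit_closedImmersion i M
    exact NatIso.isIso_of_isIso_app _
  haveI : F.Faithful := adj.fullyFaithfulROfIsIsoCounit.faithful
  have hunit : ∀ T, KP i 1 T → IsIso (adj.unit.app T) := fun T hT => isIso_unit_of_suppOn i
    ⟨fun y hy => (hy (i.surjective y)).elim, fun x a ha z => hT.2 x a (by rwa [pow_one]) z⟩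
  have hG : ∀ T, KP i 1 T → Coh.IsCoh (G.obj T) := fun T hT => PullbackMod.isCoh_pullback i T hT.1
  let g : FreeAbelianGroup (Subtype (KP i 1)) →+ KZero.K0sub (fun M : X'.Modules => Coh.IsCoh M) :=
    FreeAbelianGroup.lift fun T => KZero.clSub (fun M : X'.Modules => Coh.IsCoh M) (G.obj T.1)
  have hrel : KZero.relSub (KP i 1) ≤ g.ker := by
    rw [KZero.relSub, AddSubgroup.closure_le]
    rintro _ ⟨S, h₁, h₂, h₃, hS, rfl⟩
    haveI := hunit _ h₁
    haveI := hunit _ h₂
    haveI := hunit _ h₃
    let e : S ≅ (S.map G).map F := ShortComplex.isoMk (asIso (adj.unit.app S.X₁)) (asIso (adj.unit.app S.X₂))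
      (asIso (adj.unit.app S.X₃)) (adj.unit.naturality S.f).symm (adj.unit.naturality S.g).symm
    have hS' := ShortComplex.shortExact_of_iso e hS
    haveI : F.PreservesHomology := inferInstance
    have hGS : (S.map G).ShortExact :=
      { exact := ((S.map G).exact_map_iff_of_faithful F).1 hS'.exact
        mono_f := F.mono_of_mono_map hS'.mono_f
        epi_g := F.epi_of_epi_map hS'.epi_g }
    have h := K0ResLib.clSub_add (P := fun M : X'.Modules => Coh.IsCoh M) hGS (hG _ h₁) (hG _ h₂) (hG _ h₃)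
    simp only [SetLike.mem_coe, AddMonoidHom.mem_ker, map_sub, g, FreeAbelianGroup.lift_apply_of]
    rw [sub_sub, sub_eq_zero]
    exact h
  let Ψ : KZero.K0sub (KP i 1) →+ KZero.K0sub (fun M : X'.Modules => Coh.IsCoh M) := QuotientAddGroup.lift _ g hrel
  refine Function.bijective_iff_has_inverse.2 ⟨Ψ, ?_, ?_⟩
  · refine DFunLike.congr_fun (show Ψ.comp (SGA6.mapSub F _ (KP i 1) h1) = AddMonoidHom.id _ from
      QuotientAddGroup.addMonoidHom_ext _ (FreeAbelianGroup.lift_ext _ _ fun M => ?_))
    show Ψ (QuotientAddGroup.mk (FreeAbelianGroup.of ⟨F.obj M.1, h1 _ M.2⟩)) = QuotientAddGroup.mk (FreeAbelianGroup.of M)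
    refine (FreeAbelianGroup.lift_apply_of _ _).trans (Eq.trans ?_ (K0ResLib.clSub_of M.2))
    haveI := isIso_counit_closedImmersion i M.1
    exact cl_iso (hyp' (X := X')) (asIso (adj.counit.app M.1)).symm M.2
  · refine DFunLike.congr_fun (show (SGA6.mapSub F _ (KP i 1) h1).comp Ψ = AddMonoidHom.id _ from
      QuotientAddGroup.addMonoidHom_ext _ (FreeAbelianGroup.lift_ext _ _ fun T => ?_))
    show SGA6.mapSub F _ (KP i 1) h1 (Ψ (QuotientAddGroup.mk (FreeAbelianGroup.of T))) = QuotientAddGroup.mk (FreeAbelianGroup.of T)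
    rw [show Ψ (QuotientAddGroup.mk (FreeAbelianGroup.of T)) = _ from FreeAbelianGroup.lift_apply_of _ _,
      K0ResLib.clSub_of (hG _ T.2)]
    haveI := hunit _ T.2
    refine Eq.trans ?_ (K0ResLib.clSub_of T.2)
    refine Eq.trans ?_ (cl_iso (hyp i 1) (asIso (adj.unit.app T.1)) T.2)
    exact (K0ResLib.clSub_of (h1 _ (hG _ T.2))).symm

end Groth.Agent.KZeroLib.Devissage
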