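import Groth.Agent.K0ResLib.Basic

/-!
# Dévissage for Grothendieck groups
-/

set_option autoImplicit false
set_option linter.style.haveILetI false

open CategoryTheory CategoryTheory.Limits

universe v u

noncomputable section

namespace Groth.Agent.KZeroLib.Devissage

variable {C : Type u} [Category.{v} C] [Abelian C]

/-- An ambient class closed under kernels and cokernels, and a smaller class closed under its subobjects,
quotients and sums. -/
structure Hyp (A P : ObjectProperty C) : Prop where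
  le : ∀ {M : C}, P M → A M
  ker : ∀ {M N : C} (f : M ⟶ N), A M → A N → A (kernel f)
  coker : ∀ {M N : C} (f : M ⟶ N), A M → A N → A (cokernel f)
  isoA : ∀ {M N : C}, (M ≅ N) → A M → A N
  biA : ∀ {M N : C}, A M → A N → A (M ⊞ N)
  sub : ∀ {M N : C} (f : M ⟶ N), Mono f → A M → P N → P M
  quot : ∀ {M N : C} (f : M ⟶ N), Epi f → A N → P M → P N
  biP : ∀ {M N : C}, P M → P N → P (M ⊞ N)

variable {A P : ObjectProperty C} (H : Hyp A P)
include H

theorem Hyp.isoP {M N : C} (e : M ≅ N) (h : P M) : P N :=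
  H.quot e.hom inferInstance (H.isoA e (H.le h)) h

theorem cl_isZero {M : C} (h : IsZero M) : KZero.clSub P M = 0 := by
  by_cases hM : P M
  · have hS : (ShortComplex.mk (0 : M ⟶ M) (0 : M ⟶ M) zero_comp).ShortExact :=
      { exact := ShortComplex.exact_of_isZero_X₂ _ h
        mono_f := ⟨fun _ _ _ => h.eq_of_tgt _ _⟩
        epi_g := ⟨fun _ _ _ => h.eq_of_src _ _⟩ }
    simpa using K0ResLib.clSub_add hS hM hM hM
  · exact dif_neg hM

theorem cl_iso {M N : C} (e : M ≅ N) (hM : P M) : KZero.clSub P N = KZero.clSub P M := by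
  have hA := H.le hM
  have hk : P (kernel e.hom) := H.sub (kernel.ι e.hom) inferInstance (H.ker _ hA (H.isoA e hA)) hM
  have h := K0ResLib.clSub_add (K0ResLib.kerSC_shortExact e.hom) hk hM (H.isoP e hM)
  rw [cl_isZero H (isZero_kernel_of_mono e.hom), zero_add] at h
  exact h.symm

/-- The kernel of the second map is the first term. -/
def kerIso {S : ShortComplex C} (hS : S.ShortExact) : kernel S.g ≅ S.X₁ :=
  haveI := hS.mono_f
  IsLimit.conePointUniqueUpToIso (kernelIsKernel S.g) hS.fIsKernel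

theorem sum_eq_of_epi {S : ShortComplex C} (hS : S.ShortExact) (h₁ : P S.X₁) (h₃ : P S.X₃) (hA : A S.X₂)
    {J : C} (q : S.X₂ ⟶ J) [Epi q] (r : J ⟶ S.X₃) (w : q ≫ r = S.g) (hJ : P J) :
    KZero.clSub P S.X₁ + KZero.clSub P S.X₃ = KZero.clSub P (kernel q) + KZero.clSub P J := by
  haveI := hS.epi_g
  haveI : Epi r := epi_of_epi_fac w
  have hk : P (kernel S.g) := H.isoP (kerIso hS).symm h₁
  have hS' := K0ResLib.kerSC_shortExact r
  have hJ' : P (kernel r) := H.sub (kernel.ι r) inferInstance (H.ker _ (H.le hJ) (H.le h₃)) hJ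
  obtain ⟨a, b, hw, h⟩ := K0ResLib.exists_kernel_shortExact hS' q
  let e : kernel (q ≫ r) ≅ kernel S.g := kernelIsoOfEq w
  have hqr : P (kernel (q ≫ r)) := H.isoP e.symm hk
  haveI := h.mono_f
  have hq : P (kernel q) := H.sub a inferInstance (H.ker q hA (H.le hJ)) hqr
  have e1 := K0ResLib.clSub_add h hq hqr hJ'
  have e2 := K0ResLib.clSub_add hS' hJ' hJ h₃
  rw [show KZero.clSub P S.X₁ = KZero.clSub P (kernel S.g) from cl_iso H (kerIso hS) hk,
    show KZero.clSub P (kernel S.g) = KZero.clSub P (kernel (q ≫ r)) from cl_iso H e hqr, show KZero.clSub P (kernel (q ≫ r)) = _ from e1,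
    show KZero.clSub P J = _ from e2]
  abel

theorem sum_eq {M X₁ X₃ Y₁ Y₃ : C} {f : X₁ ⟶ M} {g : M ⟶ X₃} {z : f ≫ g = 0} {f' : Y₁ ⟶ M} {g' : M ⟶ Y₃}
    {z' : f' ≫ g' = 0} (hS : (ShortComplex.mk f g z).ShortExact) (hT : (ShortComplex.mk f' g' z').ShortExact)
    (hM : A M) (h₁ : P X₁) (h₃ : P X₃) (k₁ : P Y₁) (k₃ : P Y₃) :
    KZero.clSub P X₁ + KZero.clSub P X₃ = KZero.clSub P Y₁ + KZero.clSub P Y₃ := by
  let φ : M ⟶ X₃ ⊞ Y₃ := biprod.lift g g'
  let q := Abelian.factorThruImage φ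
  have hJ : P (Abelian.image φ) :=
    H.sub (Abelian.image.ι φ) inferInstance
      (H.ker _ (H.biA (H.le h₃) (H.le k₃)) (H.coker φ hM (H.biA (H.le h₃) (H.le k₃)))) (H.biP h₃ k₃)
  have hfac : q ≫ Abelian.image.ι φ = φ := Abelian.image.fac φ
  have e1 := sum_eq_of_epi H hS h₁ h₃ hM q (Abelian.image.ι φ ≫ biprod.fst)
    (by rw [reassoc_of% hfac]; simp [φ]) hJ
  have e2 := sum_eq_of_epi H hT k₁ k₃ hM q (Abelian.image.ι φ ≫ biprod.snd)
    (by rw [reassoc_of% hfac]; simp [φ]) hJ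
  exact e1.trans e2.symm

variable {Q : ObjectProperty C}

/-- Objects that are extensions of two objects of the smaller class. -/
def IsExt (P Q : ObjectProperty C) : Prop :=
  ∀ M : C, Q M → ∃ (X₁ X₃ : C) (f : X₁ ⟶ M) (g : M ⟶ X₃) (z : f ≫ g = 0),
    (ShortComplex.mk f g z).ShortExact ∧ P X₁ ∧ P X₃

theorem exists_additive (hQA : ∀ {M : C}, Q M → A M) (hext : IsExt P Q) :
    ∃ ψ : KZero.K0sub Q →+ KZero.K0sub P, ∀ (S : ShortComplex C), S.ShortExact → Q S.X₂ → P S.X₁ → P S.X₃ →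
      ψ (KZero.clSub Q S.X₂) = KZero.clSub P S.X₁ + KZero.clSub P S.X₃ := by
  choose L R fs gs zs hS hS1 hS3 using hext
  let ψ : FreeAbelianGroup (Subtype Q) →+ KZero.K0sub P :=
    FreeAbelianGroup.lift fun M => KZero.clSub P (L M.1 M.2) + KZero.clSub P (R M.1 M.2)
  have hval : ∀ (M : C) (hM : Q M) (T₁ T₃ : C) (f : T₁ ⟶ M) (g : M ⟶ T₃) (z : f ≫ g = 0),
      (ShortComplex.mk f g z).ShortExact → P T₁ → P T₃ →
      ψ (FreeAbelianGroup.of ⟨M, hM⟩) = KZero.clSub P T₁ + KZero.clSub P T₃ := fun M hM T₁ T₃ f g z hT hT1 hT3 =>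
    (FreeAbelianGroup.lift_apply_of _ _).trans
      (sum_eq H (hS M hM) hT (hQA hM) (hS1 M hM) (hS3 M hM) hT1 hT3)
  have hrel : KZero.relSub Q ≤ ψ.ker := by
    rw [KZero.relSub, AddSubgroup.closure_le]
    rintro x ⟨E, h₁, h₂, h₃, hE, rfl⟩
    obtain ⟨X₁, X₃, f, g, z, hT, hT1, hT3⟩ : ∃ (X₁ X₃ : C) (f : X₁ ⟶ E.X₂) (g : E.X₂ ⟶ X₃) (z : f ≫ g = 0),
        (ShortComplex.mk f g z).ShortExact ∧ P X₁ ∧ P X₃ :=
      ⟨_, _, _, _, _, hS _ h₂, hS1 _ h₂, hS3 _ h₂⟩
    haveI := hT.mono_f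
    haveI := hT.epi_g
    haveI := hE.mono_f
    haveI := hE.epi_g
    let a : X₁ ⟶ E.X₃ := f ≫ E.g
    let b : E.X₁ ⟶ X₃ := E.f ≫ g
    have hA1 := hQA h₁
    have hA3 := hQA h₃
    -- the common kernel
    let l : kernel a ⟶ E.X₁ := hE.exact.lift (kernel.ι a ≫ f) (by rw [Category.assoc]; exact kernel.condition a)
    have hl : l ≫ E.f = kernel.ι a ≫ f := hE.exact.lift_f _ _
    let l' : kernel b ⟶ X₁ := hT.exact.lift (kernel.ι b ≫ E.f) (by rw [Category.assoc]; exact kernel.condition b)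
    have hl' : l' ≫ f = kernel.ι b ≫ E.f := hT.exact.lift_f _ _
    let ek : kernel a ≅ kernel b :=
      { hom := kernel.lift b l (by show l ≫ E.f ≫ g = 0; rw [reassoc_of% hl, z, comp_zero])
        inv := kernel.lift a l' (by show l' ≫ f ≫ E.g = 0; rw [reassoc_of% hl', E.zero, comp_zero])
        hom_inv_id := by
          rw [← cancel_mono (kernel.ι a), ← cancel_mono f]
          simp [hl, hl']
        inv_hom_id := by
          rw [← cancel_mono (kernel.ι b), ← cancel_mono E.f]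
          simp [hl, hl'] }
    -- the common cokernel
    let r : X₃ ⟶ cokernel a := hT.exact.desc (E.g ≫ cokernel.π a) (by rw [← Category.assoc]; exact cokernel.condition a)
    have hr : g ≫ r = E.g ≫ cokernel.π a := hT.exact.g_desc _ _
    let r' : E.X₃ ⟶ cokernel b := hE.exact.desc (g ≫ cokernel.π b) (by rw [← Category.assoc]; exact cokernel.condition b)
    have hr' : E.g ≫ r' = g ≫ cokernel.π b := hE.exact.g_desc _ _
    let ec : cokernel a ≅ cokernel b :=
      { hom := cokernel.desc a r' (by show (f ≫ E.g) ≫ r' = 0; rw [Category.assoc, hr', reassoc_of% z, zero_comp])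
        inv := cokernel.desc b r (by show (E.f ≫ g) ≫ r = 0; rw [Category.assoc, hr, E.zero_assoc, zero_comp])
        hom_inv_id := by
          rw [← cancel_epi (cokernel.π a), ← cancel_epi E.g, cokernel.π_desc_assoc, reassoc_of% hr',
            cokernel.π_desc, hr, Category.comp_id]
        inv_hom_id := by
          rw [← cancel_epi (cokernel.π b), ← cancel_epi g, cokernel.π_desc_assoc, reassoc_of% hr,
            cokernel.π_desc, hr', Category.comp_id] }
    have hka : P (kernel a) := H.sub (kernel.ι a) inferInstance (H.ker a (H.le hT1) hA3) hT1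
    have hcb : P (cokernel b) := H.quot (cokernel.π b) inferInstance (H.coker b hA1 (H.le hT3)) hT3
    have hkb : P (kernel b) := H.isoP ek hka
    have hca : P (cokernel a) := H.isoP ec.symm hcb
    have hia : P (Abelian.image a) := H.quot (Abelian.factorThruImage a) inferInstance
      (H.ker _ hA3 (H.coker a (H.le hT1) hA3)) hT1
    have hib : P (Abelian.image b) := H.sub (Abelian.image.ι b) inferInstance
      (H.ker _ (H.le hT3) (H.coker b hA1 (H.le hT3))) hT3
    have sesI : ∀ {U V : C} (c : U ⟶ V), (ShortComplex.mk (kernel.ι c) (Abelian.factorThruImage c)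
        ((cancel_mono (Abelian.image.ι c)).1 (by simp))).ShortExact := fun c =>
      { exact := ShortComplex.exact_of_f_is_kernel _ (KernelFork.IsLimit.ofι _ _
          (fun x hx => kernel.lift c x (by rw [← Abelian.image.fac c, reassoc_of% hx, zero_comp]))
          (fun x hx => kernel.lift_ι _ _ _)
          (fun x hx m hm => (cancel_mono (kernel.ι c)).1 (by simpa using hm)))
        mono_f := inferInstance
        epi_g := inferInstance }
    have sesC : ∀ {U V : C} (c : U ⟶ V), (ShortComplex.mk (Abelian.image.ι c) (cokernel.π c) (kernel.condition _)).ShortExact :=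
      fun c =>
      { exact := ShortComplex.exact_of_f_is_kernel _ (kernelIsKernel _)
        mono_f := inferInstance
        epi_g := inferInstance }
    show ψ _ = 0
    simp only [map_sub]
    rw [hval E.X₁ h₁ _ _ _ _ _ (sesI b) hkb hib, hval E.X₃ h₃ _ _ _ _ _ (sesC a) hia hca,
      hval E.X₂ h₂ _ _ f g z hT hT1 hT3]
    rw [show KZero.clSub P X₁ = _ from K0ResLib.clSub_add (sesI a) hka hT1 hia,
      show KZero.clSub P X₃ = _ from K0ResLib.clSub_add (sesC b) hib hT3 hcb,
      cl_iso H ek hka, cl_iso H ec hca]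
    abel
  refine ⟨QuotientAddGroup.lift _ ψ hrel, fun T hT h₂ h₁ h₃ => ?_⟩
  rw [K0ResLib.clSub_of h₂]
  exact hval _ h₂ _ _ _ _ _ hT h₁ h₃

/-- Dévissage. -/
theorem bijective (hQA : ∀ {M : C}, Q M → A M) (hle : ∀ M, P M → Q M) (hext : IsExt P Q) :
    Function.Bijective (SGA6.mapSub (𝟭 C) P Q hle) := by
  obtain ⟨ψ, hψ⟩ := exists_additive H hQA hext
  have hm : ∀ M, P M → SGA6.mapSub (𝟭 C) P Q hle (KZero.clSub P M) = KZero.clSub Q M := fun M hM => by
    rw [K0ResLib.clSub_of hM, K0ResLib.clSub_of (hle M hM)]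
    rfl
  have h1 : ψ.comp (SGA6.mapSub (𝟭 C) P Q hle) = AddMonoidHom.id _ := by
    refine QuotientAddGroup.addMonoidHom_ext _ (FreeAbelianGroup.lift_ext _ _ fun X => ?_)
    show ψ (SGA6.mapSub (𝟭 C) P Q hle (QuotientAddGroup.mk (FreeAbelianGroup.of X))) =
      QuotientAddGroup.mk (FreeAbelianGroup.of X)
    rw [show (QuotientAddGroup.mk (FreeAbelianGroup.of X) : KZero.K0sub P) = KZero.clSub P X.1 from
      (K0ResLib.clSub_of X.2).symm, hm _ X.2]
    have hz : IsZero (kernel (𝟙 X.1)) := isZero_kernel_of_mono _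
    have hS := K0ResLib.kerSC_shortExact (𝟙 X.1)
    have h0 : P (kernel (𝟙 X.1)) := H.sub (kernel.ι _) inferInstance (H.ker _ (H.le X.2) (H.le X.2)) X.2
    rw [show KZero.clSub Q X.1 = KZero.clSub Q (K0ResLib.kerSC (𝟙 X.1)).X₂ from rfl,
      hψ _ hS (hle _ X.2) h0 X.2, cl_isZero H hz, zero_add]
  have h2 : (SGA6.mapSub (𝟭 C) P Q hle).comp ψ = AddMonoidHom.id _ := by
    refine QuotientAddGroup.addMonoidHom_ext _ (FreeAbelianGroup.lift_ext _ _ fun X => ?_)
    show SGA6.mapSub (𝟭 C) P Q hle (ψ (QuotientAddGroup.mk (FreeAbelianGroup.of X))) =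
      QuotientAddGroup.mk (FreeAbelianGroup.of X)
    rw [show (QuotientAddGroup.mk (FreeAbelianGroup.of X) : KZero.K0sub Q) = KZero.clSub Q X.1 from
      (K0ResLib.clSub_of X.2).symm]
    obtain ⟨X₁, X₃, f, g, z, hS, hS1, hS3⟩ := hext X.1 X.2
    rw [show KZero.clSub Q X.1 = KZero.clSub Q (ShortComplex.mk f g z).X₂ from rfl,
      hψ _ hS X.2 hS1 hS3, map_add, hm _ hS1, hm _ hS3, K0ResLib.clSub_add hS (hle _ hS1) X.2 (hle _ hS3)]
  exact Function.bijective_iff_has_inverse.2 ⟨ψ, DFunLike.congr_fun h1, DFunLike.congr_fun h2⟩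

end Groth.Agent.KZeroLib.Devissage
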