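import Groth.Agent.DRingLib.Approx
import Groth.Agent.DRingLib.AwayBiprod
import Groth.Agent.K0ResLib.Basic
import Groth.Agent.KZeroLib.Heart

/-!
# `K₀` of a ring and of its perfect complexes
-/

set_option autoImplicit false
set_option linter.style.haveILetI false
set_option backward.isDefEq.respectTransparency false

universe u

open CategoryTheory Limits Pretriangulated
open scoped ZeroObject
attribute [local instance] HasDerivedCategory.standard

noncomputable section

namespace Groth.Agent.KZeroLib.PerfRing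

open Groth.Agent.DRingLib

variable {R : Type u} [CommRing R]

/-- Finite projective modules. -/
abbrev P : ObjectProperty (ModuleCat.{u} R) := fun M => Module.Finite R M ∧ Module.Projective R M

/-- Perfect objects. -/
abbrev Q : ObjectProperty (Dual.D R) := fun K => DRing.IsPerfect R K

theorem cl_isZero {M : ModuleCat.{u} R} (h : IsZero M) : KZero.clSub P M = 0 :=
  Groth.Agent.KZeroLib.clSub_isZero h

theorem cl_add {S : ShortComplex (ModuleCat.{u} R)} (hS : S.ShortExact) (h₁ : P S.X₁) (h₂ : P S.X₂) (h₃ : P S.X₃) :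
    KZero.clSub P S.X₂ = KZero.clSub P S.X₁ + KZero.clSub P S.X₃ := K0ResLib.clSub_add hS h₁ h₂ h₃

theorem cl_iso {M N : ModuleCat.{u} R} (e : M ≅ N) (hM : P M) : KZero.clSub P N = KZero.clSub P M := by
  have hz : IsZero (kernel e.hom) := isZero_kernel_of_mono e.hom
  have h := cl_add (K0ResLib.kerSC_shortExact e.hom) (projClass_fProj.zero hz) hM (projClass_fProj.iso e hM)
  rw [cl_isZero hz, zero_add] at h
  exact h.symm

theorem cl_biprod {M N : ModuleCat.{u} R} (hM : P M) (hN : P N) :
    KZero.clSub P (M ⊞ N) = KZero.clSub P M + KZero.clSub P N :=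
  cl_add (ShortComplex.Splitting.ofHasBinaryBiproduct M N).shortExact hM (projClass_fProj.biprod hM hN) hN

theorem of_retract {M N : ModuleCat.{u} R} (i : M ⟶ N) (r : N ⟶ M) (h : i ≫ r = 𝟙 M) (hN : P N) : P M := by
  haveI := hN.1
  haveI := hN.2
  have hir : r.hom.comp i.hom = LinearMap.id := congrArg ModuleCat.Hom.hom h
  exact ⟨Module.Finite.of_surjective r.hom fun m => ⟨i.hom m, LinearMap.congr_fun hir m⟩,
    Module.Projective.of_split i.hom r.hom hir⟩

/-- The Euler characteristic of a complex. -/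
def eul (E : DRing.Cx R) : KZero.K0sub (P (R := R)) := ∑ᶠ i : ℤ, (i.negOnePow : ℤ) • KZero.clSub P (E.X i)

theorem support_finite {E : DRing.Cx R} (hE : Bdd FProj E) (f : ℤ → ℤ) :
    (Function.support fun i => f i • KZero.clSub P (E.X i)).Finite := by
  obtain ⟨⟨a, b, hab⟩, -⟩ := hE
  refine (Finset.Icc a b).finite_toSet.subset fun i hi => ?_
  by_contra hne
  simp only [Finset.coe_Icc, Set.mem_Icc, not_and_or, not_le] at hne
  exact hi (show f i • KZero.clSub P (E.X i) = 0 by rw [cl_isZero (hab i hne), smul_zero])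

theorem sum_shift (f : ℤ → KZero.K0sub (P (R := R))) :
    ∑ᶠ i : ℤ, (i.negOnePow : ℤ) • f (i + 1) = -∑ᶠ i : ℤ, (i.negOnePow : ℤ) • f i := by
  rw [← finsum_neg_distrib, ← finsum_comp_equiv (Equiv.addRight (1 : ℤ)) (f := fun i => -((i.negOnePow : ℤ) • f i))]
  refine finsum_congr fun i => ?_
  show _ = -(((i + 1).negOnePow : ℤ) • f (i + 1))
  rw [Int.negOnePow_succ, Units.val_neg, neg_smul, neg_neg]

theorem eul_mappingCone {M N : DRing.Cx R} (f : M ⟶ N) (hM : Bdd FProj M) (hN : Bdd FProj N) :
    eul (CochainComplex.mappingCone f) = eul N - eul M := by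
  have hsM : (Function.support fun i : ℤ => (i.negOnePow : ℤ) • KZero.clSub P (M.X (i + 1))).Finite := by
    obtain ⟨⟨a, b, hab⟩, -⟩ := hM
    refine (Finset.Icc (a - 1) (b - 1)).finite_toSet.subset fun i hi => ?_
    by_contra hne
    simp only [Finset.coe_Icc, Set.mem_Icc, not_and_or, not_le] at hne
    exact hi (show (i.negOnePow : ℤ) • KZero.clSub P (M.X (i + 1)) = 0 by
      rw [cl_isZero (hab _ (by omega)), smul_zero])
  have h : ∀ i : ℤ, (i.negOnePow : ℤ) • KZero.clSub P ((CochainComplex.mappingCone f).X i) =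
      (i.negOnePow : ℤ) • KZero.clSub P (M.X (i + 1)) + (i.negOnePow : ℤ) • KZero.clSub P (N.X i) := fun i => by
    rw [show KZero.clSub P ((CochainComplex.mappingCone f).X i) = _ from
      cl_iso (HomologicalComplex.homotopyCofiber.XIsoBiprod f i (i + 1) (by simp)).symm
        (projClass_fProj.biprod (hM.2 _) (hN.2 _)), cl_biprod (hM.2 _) (hN.2 _), smul_add]
  rw [eul, finsum_congr h, finsum_add_distrib hsM (support_finite hN _),
    sum_shift fun i => KZero.clSub P (M.X i), neg_add_eq_sub]
  rfl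

theorem eul_contractible {E : DRing.Cx R} (hE : Bdd FProj E) (h : Homotopy (𝟙 E) 0) : eul E = 0 := by
  have hid : ∀ i : ℤ, E.iCycles i = (E.iCycles i ≫ h.hom i (i - 1)) ≫ E.d (i - 1) i := fun i => by
    have hh := h.comm i
    rw [dNext_eq _ (show (ComplexShape.up ℤ).Rel i (i + 1) by simp),
      prevD_eq _ (show (ComplexShape.up ℤ).Rel (i - 1) i by simp), HomologicalComplex.zero_f, add_zero,
      HomologicalComplex.id_f] at hh
    have := congrArg (E.iCycles i ≫ ·) hh
    simpa [Category.assoc] using this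
  have hsec : ∀ i : ℤ, (E.iCycles (i + 1) ≫ h.hom (i + 1) i) ≫ E.toCycles i (i + 1) = 𝟙 _ := fun i => by
    rw [← cancel_mono (E.iCycles (i + 1)), Category.assoc, E.toCycles_i, Category.id_comp]
    have hi : i + 1 - 1 = i := by omega
    have := hid (i + 1)
    rw [hi] at this
    exact this.symm
  have hS : ∀ i : ℤ, ∃ w, (ShortComplex.mk (E.iCycles i) (E.toCycles i (i + 1)) w).ShortExact := fun i => by
    refine ⟨by rw [← cancel_mono (E.iCycles (i + 1)), Category.assoc, E.toCycles_i, E.iCycles_d, zero_comp], ?_⟩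
    exact
      { exact := ShortComplex.exact_of_f_is_kernel _ (KernelFork.IsLimit.ofι _ _
          (fun x hx => E.liftCycles x (i + 1) (by simp) (by rw [← E.toCycles_i, reassoc_of% hx, zero_comp]))
          (fun x hx => E.liftCycles_i _ _ _ _)
          (fun x hx m hm => by rw [← cancel_mono (E.iCycles i), E.liftCycles_i]; exact hm))
        mono_f := inferInstanceAs (Mono (E.iCycles i))
        epi_g := epi_of_epi_fac (hsec i) }
  have hZ : ∀ i : ℤ, P (E.cycles i) := fun i => by
    have := of_retract _ _ (hsec (i - 1)) (hE.2 (i - 1))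
    rwa [show i - 1 + 1 = i by omega] at this
  have hX : ∀ i : ℤ, (i.negOnePow : ℤ) • KZero.clSub P (E.X i) = (i.negOnePow : ℤ) • KZero.clSub P (E.cycles i) +
      (i.negOnePow : ℤ) • KZero.clSub P (E.cycles (i + 1)) := fun i => by
    obtain ⟨w, hw⟩ := hS i
    rw [show KZero.clSub P (E.X i) = _ from cl_add hw (hZ i) (hE.2 i) (hZ (i + 1)), smul_add]
  obtain ⟨⟨a, b, hab⟩, -⟩ := hE
  have hz : ∀ i : ℤ, i < a ∨ b < i → IsZero (E.cycles i) := fun i hi => IsZero.of_mono (E.iCycles i) (hab i hi)
  have hs₁ : (Function.support fun i : ℤ => (i.negOnePow : ℤ) • KZero.clSub P (E.cycles i)).Finite := by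
    refine (Finset.Icc a b).finite_toSet.subset fun i hi => ?_
    by_contra hne
    simp only [Finset.coe_Icc, Set.mem_Icc, not_and_or, not_le] at hne
    exact hi (show (i.negOnePow : ℤ) • KZero.clSub P (E.cycles i) = 0 by rw [cl_isZero (hz i hne), smul_zero])
  have hs₂ : (Function.support fun i : ℤ => (i.negOnePow : ℤ) • KZero.clSub P (E.cycles (i + 1))).Finite := by
    refine (Finset.Icc (a - 1) (b - 1)).finite_toSet.subset fun i hi => ?_
    by_contra hne
    simp only [Finset.coe_Icc, Set.mem_Icc, not_and_or, not_le] at hne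
    exact hi (show (i.negOnePow : ℤ) • KZero.clSub P (E.cycles (i + 1)) = 0 by
      rw [cl_isZero (hz (i + 1) (by omega)), smul_zero])
  rw [eul, finsum_congr hX, finsum_add_distrib hs₁ hs₂, sum_shift fun i => KZero.clSub P (E.cycles i), add_neg_cancel]

theorem eul_eq_of_iso {E F : DRing.Cx R} (hE : Bdd FProj E) (hF : Bdd FProj F) (e : DRing.toD E ≅ DRing.toD F) :
    eul E = eul F := by
  haveI := hE.isKProjective projClass_fProj
  obtain ⟨β, hβ⟩ := Q_map_surjective E F e.hom
  have hC := hE.mappingCone projClass_fProj β hF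
  haveI := hC.isKProjective projClass_fProj
  have hz : IsZero (DRing.toD (CochainComplex.mappingCone β)) :=
    (Triangle.isZero₃_iff_isIso₁ _ (DerivedCategory.mappingCone_triangle_distinguished β)).2
      (show IsIso (DerivedCategory.Q.map β) by rw [hβ]; infer_instance)
  have hac : (CochainComplex.mappingCone β).Acyclic := fun i =>
    (HomologicalComplex.exactAt_iff_isZero_homology _ i).2
      ((((DerivedCategory.homologyFunctor (ModuleCat.{u} R) i).map_isZero hz)).of_iso
        ((DerivedCategory.homologyFunctorFactors (ModuleCat.{u} R) i).app _).symm)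
  have h := eul_contractible hC (CochainComplex.IsKProjective.homotopyZero (𝟙 _) hac)
  rw [eul_mappingCone β hE hF, sub_eq_zero] at h
  exact h.symm

/-- The Euler characteristic of a perfect object. -/
def chi (K : Dual.D R) : KZero.K0sub (P (R := R)) :=
  open Classical in if h : Perf FProj K then eul h.choose else 0

theorem chi_eq {K : Dual.D R} {E : DRing.Cx R} (hE : Bdd FProj E) (e : DRing.toD E ≅ K) : chi K = eul E := by
  have h : Perf FProj K := ⟨E, hE, ⟨e⟩⟩
  rw [chi, dif_pos h]
  exact eul_eq_of_iso h.choose_spec.1 hE (h.choose_spec.2.some ≪≫ e.symm)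

theorem chi_add (T : Triangle (Dual.D R)) (hT : T ∈ distTriang _) (h₁ : Q T.obj₁) (h₂ : Q T.obj₂) :
    chi T.obj₂ = chi T.obj₁ + chi T.obj₃ := by
  obtain ⟨E, hE, ⟨a⟩⟩ := (isPerfect_iff _).1 h₁
  obtain ⟨F, hF, ⟨b⟩⟩ := (isPerfect_iff _).1 h₂
  haveI := hE.isKProjective projClass_fProj
  obtain ⟨β, hβ⟩ := Q_map_surjective E F (a.hom ≫ T.mor₁ ≫ b.inv)
  let i := isoTriangleOfIso₁₂ _ T (DerivedCategory.mappingCone_triangle_distinguished β) hT a b
    (show DerivedCategory.Q.map β ≫ b.hom = a.hom ≫ T.mor₁ by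
      rw [hβ, Category.assoc, Category.assoc, Iso.inv_hom_id, Category.comp_id])
  rw [chi_eq hF b, chi_eq hE a, show chi T.obj₃ = _ from chi_eq (hE.mappingCone projClass_fProj β hF) (Triangle.π₃.mapIso i),
    eul_mappingCone β hE hF]
  abel

/-- From perfect objects to finite projective modules. -/
def toSub : KZero.K0tr (Q (R := R)) →+ KZero.K0sub (P (R := R)) :=
  QuotientAddGroup.lift _ (FreeAbelianGroup.lift fun K => chi K.1) <| by
    rw [KZero.relTr, AddSubgroup.closure_le]
    rintro x ⟨T, h₁, h₂, h₃, hT, rfl⟩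
    simp only [SetLike.mem_coe, AddMonoidHom.mem_ker, map_sub, FreeAbelianGroup.lift_apply_of]
    rw [sub_sub, sub_eq_zero]
    exact chi_add T hT h₁ h₂

theorem toSub_clTr {K : Dual.D R} (hK : Q K) : toSub (KZero.clTr Q K) = chi K := by
  rw [Groth.Agent.KZeroLib.clTr_of hK]
  exact (QuotientAddGroup.lift_mk' _ _ _).trans (FreeAbelianGroup.lift_apply_of _ _)

theorem perfect_single {M : ModuleCat.{u} R} (hM : P M) (n : ℤ) :
    Bdd FProj ((CochainComplex.singleFunctor (ModuleCat.{u} R) n).obj M) :=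
  ⟨⟨n, n, fun i hi => HomologicalComplex.isZero_single_obj_X (ComplexShape.up ℤ) n M i (by omega)⟩, fun i => by
    by_cases hi : i = n
    · subst hi
      exact projClass_fProj.iso (HomologicalComplex.singleObjXSelf (ComplexShape.up ℤ) i M).symm hM
    · exact projClass_fProj.zero (HomologicalComplex.isZero_single_obj_X (ComplexShape.up ℤ) n M i hi)⟩

theorem eul_single {M : ModuleCat.{u} R} (hM : P M) :
    eul ((CochainComplex.singleFunctor (ModuleCat.{u} R) 0).obj M) = KZero.clSub P M := by
  rw [eul, finsum_eq_single _ (0 : ℤ) fun i hi => ?_]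
  · rw [Int.negOnePow_zero, Units.val_one, one_smul]
    exact cl_iso (HomologicalComplex.singleObjXSelf (ComplexShape.up ℤ) 0 M).symm hM
  · rw [show KZero.clSub P (((CochainComplex.singleFunctor (ModuleCat.{u} R) 0).obj M).X i) = 0 from
      cl_isZero (HomologicalComplex.isZero_single_obj_X (ComplexShape.up ℤ) 0 M i hi), smul_zero]

/-- A module in degree 0. -/
abbrev single₀ (M : ModuleCat.{u} R) : Dual.D R := DRing.toD ((CochainComplex.singleFunctor (ModuleCat.{u} R) 0).obj M)

theorem isPerfect_single₀ {M : ModuleCat.{u} R} (hM : P M) : Q (single₀ M) :=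
  (isPerfect_iff _).2 ⟨_, perfect_single hM 0, ⟨Iso.refl _⟩⟩

theorem chi_single₀ {M : ModuleCat.{u} R} (hM : P M) : chi (single₀ M) = KZero.clSub P M := by
  rw [chi_eq (perfect_single hM 0) (Iso.refl _), eul_single hM]

/-- From finite projective modules to perfect objects. -/
def toTr : KZero.K0sub (P (R := R)) →+ KZero.K0tr (Q (R := R)) :=
  QuotientAddGroup.lift _ (FreeAbelianGroup.lift fun M => KZero.clTr Q (single₀ M.1)) <| by
    rw [KZero.relSub, AddSubgroup.closure_le]
    rintro x ⟨S, h₁, h₂, h₃, hS, rfl⟩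
    simp only [SetLike.mem_coe, AddMonoidHom.mem_ker, map_sub, FreeAbelianGroup.lift_apply_of]
    rw [sub_sub, sub_eq_zero]
    have hS' : (S.map (CochainComplex.singleFunctor (ModuleCat.{u} R) 0)).ShortExact :=
      HomologicalComplex.shortExact_of_degreewise_shortExact _ fun i => by
        by_cases hi : i = 0
        · subst hi
          exact ShortComplex.shortExact_of_iso (ShortComplex.isoMk
            (HomologicalComplex.singleObjXSelf (ComplexShape.up ℤ) 0 S.X₁).symm
            (HomologicalComplex.singleObjXSelf (ComplexShape.up ℤ) 0 S.X₂).symm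
            (HomologicalComplex.singleObjXSelf (ComplexShape.up ℤ) 0 S.X₃).symm
            (by simp [CochainComplex.singleFunctor, CochainComplex.singleFunctors, HomologicalComplex.single_map_f_self])
            (by simp [CochainComplex.singleFunctor, CochainComplex.singleFunctors, HomologicalComplex.single_map_f_self])) hS
        · have hz := fun M : ModuleCat.{u} R => HomologicalComplex.isZero_single_obj_X (ComplexShape.up ℤ) 0 M i hi
          exact { exact := ShortComplex.exact_of_isZero_X₂ _ (hz _)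
                  mono_f := ⟨fun _ _ _ => (hz S.X₁).eq_of_tgt _ _⟩
                  epi_g := ⟨fun _ _ _ => (hz S.X₃).eq_of_src _ _⟩ }
    exact Groth.Agent.KZeroLib.clTr_add _ (DerivedCategory.triangleOfSES_distinguished hS') (isPerfect_single₀ h₁)
      (isPerfect_single₀ h₂) (isPerfect_single₀ h₃)

theorem toTr_clSub {M : ModuleCat.{u} R} (hM : P M) : toTr (KZero.clSub P M) = KZero.clTr Q (single₀ M) := by
  rw [K0ResLib.clSub_of hM]
  exact (QuotientAddGroup.lift_mk' _ _ _).trans (FreeAbelianGroup.lift_apply_of _ _)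

theorem isPerfect_zero : Q (0 : Dual.D R) :=
  (isPerfect_iff _).2 ⟨HomologicalComplex.zero, bdd_zero projClass_fProj,
    ⟨(DerivedCategory.Q.map_isZero HomologicalComplex.isZero_zero).iso (isZero_zero _)⟩⟩

theorem isPerfect_of_iso {K L : Dual.D R} (e : K ≅ L) (h : Q K) : Q L :=
  (isPerfect_iff _).2 (((isPerfect_iff _).1 h).of_iso e)

theorem isPerfect_shift (K : Dual.D R) (n : ℤ) (h : Q K) : Q (K⟦n⟧) :=
  (isPerfect_iff _).2 (((isPerfect_iff _).1 h).shift n)

theorem toTr_eul_single {M : ModuleCat.{u} R} (hM : P M) (a : ℤ) :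
    toTr (eul ((CochainComplex.singleFunctor (ModuleCat.{u} R) a).obj M)) =
      KZero.clTr Q (DRing.toD ((CochainComplex.singleFunctor (ModuleCat.{u} R) a).obj M)) := by
  haveI : (Q (R := R)).IsClosedUnderIsomorphisms := ⟨fun e h => isPerfect_of_iso e h⟩
  have he : eul ((CochainComplex.singleFunctor (ModuleCat.{u} R) a).obj M) = (a.negOnePow : ℤ) • KZero.clSub P M := by
    rw [eul, finsum_eq_single _ a fun i hi => ?_]
    · rw [show KZero.clSub P (((CochainComplex.singleFunctor (ModuleCat.{u} R) a).obj M).X a) = KZero.clSub P M from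
        cl_iso (HomologicalComplex.singleObjXSelf (ComplexShape.up ℤ) a M).symm hM]
    · rw [show KZero.clSub P (((CochainComplex.singleFunctor (ModuleCat.{u} R) a).obj M).X i) = 0 from
        cl_isZero (HomologicalComplex.isZero_single_obj_X (ComplexShape.up ℤ) a M i hi), smul_zero]
  let e : (single₀ M)⟦-a⟧ ≅ DRing.toD ((CochainComplex.singleFunctor (ModuleCat.{u} R) a).obj M) :=
    (shiftFunctor (Dual.D R) (-a)).mapIso ((DerivedCategory.singleFunctorIsoCompQ (ModuleCat.{u} R) 0).app M).symm ≪≫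
      ((DerivedCategory.singleFunctors (ModuleCat.{u} R)).shiftIso (-a) a 0 (by omega)).app M ≪≫
      (DerivedCategory.singleFunctorIsoCompQ (ModuleCat.{u} R) a).app M
  have h₀ := isPerfect_single₀ hM
  rw [he, map_zsmul, toTr_clSub hM,
    Groth.Agent.KZeroLib.clTr_iso isPerfect_zero e (isPerfect_shift _ _ h₀) (isPerfect_of_iso e (isPerfect_shift _ _ h₀)),
    Groth.Agent.KZeroLib.clTr_shift isPerfect_zero isPerfect_shift h₀, Int.negOnePow_neg]

theorem toTr_eul {E : DRing.Cx R} (hE : Bdd FProj E) : toTr (eul E) = KZero.clTr Q (DRing.toD E) := by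
  obtain ⟨⟨a, b, hab⟩, hP⟩ := id hE
  have hB : ∀ n, Bdd FProj (KFlat.brutal E n) := fun n => hE.brutal projClass_fProj n
  have key : ∀ (k : ℕ), toTr (eul (KFlat.brutal E (b + 1 - k))) = KZero.clTr Q (DRing.toD (KFlat.brutal E (b + 1 - k))) := by
    intro k
    induction k with
    | zero =>
      have hz : ∀ i, IsZero ((KFlat.brutal E (b + 1 - ((0 : ℕ) : ℤ))).X i) := fun i => by
        by_cases hi : i < b + 1
        · exact KFlat.isZero_brutal E _ (by simpa using hi)
        · exact KFlat.isZero_brutal_of_isZero E _ (hab i (by omega))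
      rw [Groth.Agent.KZeroLib.clTr_isZero (DerivedCategory.Q.map_isZero ((IsZero.iff_id_eq_zero _).2
          (HomologicalComplex.hom_ext _ _ fun i => (hz i).eq_of_src _ _)))
          ((isPerfect_iff _).2 ⟨_, hB _, ⟨Iso.refl _⟩⟩),
        eul, finsum_eq_zero_of_forall_eq_zero fun i => by rw [cl_isZero (hz i), smul_zero], map_zero]
    | succ k ih =>
      generalize hn : b + 1 - ((k + 1 : ℕ) : ℤ) = n
      rw [show b + 1 - (k : ℤ) = n + 1 by omega] at ih
      let S := KFlat.brutalShortComplex E n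
      let σ := fun i => KFlat.brutalSplitting E n i
      have hS : S.ShortExact := HomologicalComplex.shortExact_of_degreewise_shortExact _ fun i => (σ i).shortExact
      have h3 : Bdd FProj S.X₃ := perfect_single (hP n) n
      have hsum : eul (KFlat.brutal E n) = eul (KFlat.brutal E (n + 1)) + eul S.X₃ := by
        rw [eul, eul, eul, ← finsum_add_distrib (support_finite (hB _) _) (support_finite h3 _)]
        refine finsum_congr fun i => ?_
        rw [← smul_add]
        exact congrArg _ (cl_add (σ i).shortExact ((hB (n + 1)).2 i) ((hB n).2 i) (h3.2 i))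
      rw [hsum, map_add, ih, show toTr (eul S.X₃) = _ from toTr_eul_single (hP n) n]
      exact (Groth.Agent.KZeroLib.clTr_add _ (DerivedCategory.triangleOfSES_distinguished hS)
        ((isPerfect_iff _).2 ⟨_, hB _, ⟨Iso.refl _⟩⟩) ((isPerfect_iff _).2 ⟨_, hB _, ⟨Iso.refl _⟩⟩)
        ((isPerfect_iff _).2 ⟨_, h3, ⟨Iso.refl _⟩⟩)).symm
  obtain ⟨k, hk⟩ : ∃ k : ℕ, b + 1 - (k : ℤ) ≤ a := ⟨(b + 1 - a).toNat, by omega⟩
  haveI : ∀ i, IsIso ((KFlat.brutalι E (b + 1 - k)).f i) := fun i => by
    by_cases hi : b + 1 - (k : ℤ) ≤ i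
    · exact KFlat.isIso_incl E _ hi
    · exact ⟨0, (KFlat.isZero_brutal E _ (not_le.1 hi)).eq_of_src _ _, (hab i (by omega)).eq_of_src _ _⟩
  haveI : IsIso (KFlat.brutalι E (b + 1 - k)) := HomologicalComplex.Hom.isIso_of_components _
  let e := DerivedCategory.Q.mapIso (asIso (KFlat.brutalι E (b + 1 - k)))
  rw [← eul_eq_of_iso (hB _) hE e, key k,
    Groth.Agent.KZeroLib.clTr_iso isPerfect_zero e ((isPerfect_iff _).2 ⟨_, hB _, ⟨Iso.refl _⟩⟩)
      ((isPerfect_iff _).2 ⟨_, hE, ⟨Iso.refl _⟩⟩)]

/-- The equivalence. -/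
def equiv : KZero.K0sub (P (R := R)) ≃+ KZero.K0tr (Q (R := R)) :=
  AddMonoidHom.toAddEquiv toTr toSub
    (by
      refine QuotientAddGroup.addMonoidHom_ext _ (FreeAbelianGroup.lift_ext _ _ fun X => ?_)
      show toSub (toTr (QuotientAddGroup.mk (FreeAbelianGroup.of X))) = QuotientAddGroup.mk (FreeAbelianGroup.of X)
      rw [show (QuotientAddGroup.mk (FreeAbelianGroup.of X) : KZero.K0sub (P (R := R))) = KZero.clSub P X.1 from
        (K0ResLib.clSub_of X.2).symm, toTr_clSub X.2, toSub_clTr (isPerfect_single₀ X.2), chi_single₀ X.2])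
    (by
      refine QuotientAddGroup.addMonoidHom_ext _ (FreeAbelianGroup.lift_ext _ _ fun K => ?_)
      show toTr (toSub (QuotientAddGroup.mk (FreeAbelianGroup.of K))) = QuotientAddGroup.mk (FreeAbelianGroup.of K)
      rw [show (QuotientAddGroup.mk (FreeAbelianGroup.of K) : KZero.K0tr (Q (R := R))) = KZero.clTr Q K.1 from
        (Groth.Agent.KZeroLib.clTr_of K.2).symm, toSub_clTr K.2]
      obtain ⟨E, hE, ⟨e⟩⟩ := (isPerfect_iff _).1 K.2
      rw [chi_eq hE e, toTr_eul hE, Groth.Agent.KZeroLib.clTr_iso isPerfect_zero e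
        ((isPerfect_iff _).2 ⟨E, hE, ⟨Iso.refl _⟩⟩) K.2])

end Groth.Agent.KZeroLib.PerfRing
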